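import Groth.Agent.Lib.TrdegPair15.Field
import Groth.Agent.Lib.FibDim14.BaseChange
import Groth.Prelude.Def_Dual3

/-!
# A point over a pair with maximal residual degree
-/

universe u

open CategoryTheory Limits AlgebraicGeometry Cardinal IsLocalRing

set_option backward.isDefEq.respectTransparency.types false
set_option linter.style.haveILetI false

namespace Groth.Agent.TrdegPair15

variable {A B : Scheme.{u}}

/-- The map of residue fields at a point with prescribed image. -/
noncomputable def resMap (φ : A ⟶ B) (a : A) (b : B) (h : φ a = b) :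
    B.residueField b ⟶ A.residueField a :=
  (B.residueFieldCongr h.symm).hom ≫ φ.residueFieldMap a

@[reassoc]
theorem resMap_fromSpec (φ : A ⟶ B) (a : A) (b : B) (h : φ a = b) :
    Spec.map (resMap φ a b h) ≫ B.fromSpecResidueField b = A.fromSpecResidueField a ≫ φ := by
  subst h
  simp [resMap, Scheme.Hom.SpecMap_residueFieldMap_fromSpecResidueField]

theorem res_ext {b : B} {T : CommRingCat.{u}} {u v : B.residueField b ⟶ T}
    (h : Spec.map u ≫ B.fromSpecResidueField b = Spec.map v ≫ B.fromSpecResidueField b) : u = v :=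
  Spec.map_injective ((cancel_mono _).1 h)

theorem exists_desc {K : Type u} [Field K] (l : Spec (CommRingCat.of K) ⟶ B) (b : B)
    (hb : l (closedPoint K) = b) :
    ∃ ρ : B.residueField b ⟶ CommRingCat.of K, Spec.map ρ ≫ B.fromSpecResidueField b = l := by
  subst hb
  exact ⟨_, Scheme.descResidueField_stalkClosedPointTo_fromSpecResidueField K B l⟩

theorem point_eq {b : B} {T : CommRingCat.{u}} (u : B.residueField b ⟶ T) (z : Spec T) :
    B.fromSpecResidueField b (Spec.map u z) = b :=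
  Scheme.fromSpecResidueField_apply _ _

/-- The residue field of a point of a fibre product is generated by those of its projections. -/
theorem residueField_generated {X Y S T : Scheme.{u}} {p : T ⟶ X} {q : T ⟶ Y} {g : X ⟶ S} {h : Y ⟶ S}
    (hsq : IsPullback p q g h) (t : T) (a : X) (b : Y) (ha : p t = a) (hb : q t = b) :
    Subfield.closure (Set.range (resMap p t a ha).hom ∪ Set.range (resMap q t b hb).hom) = ⊤ := by
  let F := Subfield.closure (Set.range (resMap p t a ha).hom ∪ Set.range (resMap q t b hb).hom)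
  have hst : g a = h b := by
    rw [← ha, ← hb, ← Scheme.Hom.comp_apply, hsq.w, Scheme.Hom.comp_apply]
  let u : X.residueField a ⟶ CommRingCat.of F := CommRingCat.ofHom
    ((resMap p t a ha).hom.codRestrict F.toSubring fun x => Subfield.subset_closure (Or.inl ⟨x, rfl⟩))
  let v : Y.residueField b ⟶ CommRingCat.of F := CommRingCat.ofHom
    ((resMap q t b hb).hom.codRestrict F.toSubring fun x => Subfield.subset_closure (Or.inr ⟨x, rfl⟩))
  let incl : CommRingCat.of F ⟶ T.residueField t := CommRingCat.ofHom F.subtype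
  have hu : u ≫ incl = resMap p t a ha := rfl
  have hv : v ≫ incl = resMap q t b hb := rfl
  have hk : resMap g a (h b) hst ≫ resMap p t a ha = resMap h b (h b) rfl ≫ resMap q t b hb := by
    apply res_ext
    rw [Spec.map_comp, Spec.map_comp, Category.assoc, Category.assoc, resMap_fromSpec, resMap_fromSpec,
      resMap_fromSpec_assoc, resMap_fromSpec_assoc, hsq.w]
  have hk' : resMap g a (h b) hst ≫ u = resMap h b (h b) rfl ≫ v := by
    ext x
    exact congrArg (fun m => m.hom x) hk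
  let l := hsq.lift (Spec.map u ≫ X.fromSpecResidueField a) (Spec.map v ≫ Y.fromSpecResidueField b) (by
    have := congrArg (fun m => Spec.map m ≫ S.fromSpecResidueField (h b)) hk'
    simpa [Spec.map_comp, resMap_fromSpec] using this)
  have hl : Spec.map incl ≫ l = T.fromSpecResidueField t := by
    apply hsq.hom_ext
    · rw [Category.assoc, IsPullback.lift_fst, ← Spec.map_comp_assoc, hu, resMap_fromSpec]
    · rw [Category.assoc, IsPullback.lift_snd, ← Spec.map_comp_assoc, hv, resMap_fromSpec]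
  have hpt : l (closedPoint F) = t := by
    let z : Spec (T.residueField t) := closedPoint _
    have h2 : l (Spec.map incl z) = t := by
      rw [← Scheme.Hom.comp_apply, hl]; exact Scheme.fromSpecResidueField_apply _ _
    rwa [Subsingleton.elim (α := PrimeSpectrum F) (Spec.map incl z) (closedPoint F)] at h2
  obtain ⟨ρ, hρ⟩ := exists_desc l t hpt
  have hid : ρ ≫ incl = 𝟙 _ := res_ext (by
    rw [Spec.map_comp, Category.assoc, hρ, hl, Spec.map_id, Category.id_comp])
  rw [eq_top_iff]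
  intro x _
  have := congrArg (fun m => m.hom x) hid
  change (ρ.hom x).1 = x at this
  exact this ▸ (ρ.hom x).2

theorem resTrdeg_eq (φ : A ⟶ B) (a : A) :
    Dual3.resTrdeg φ a =
      @Algebra.trdeg (B.residueField (φ a)) (A.residueField a) _ _ (resMap φ a (φ a) rfl).hom.toAlgebra := by
  unfold Dual3.resTrdeg
  congr 1

set_option maxHeartbeats 1000000 in
theorem exists_point_over_pair {X S S' S'' X' X'' : Scheme.{u}}
    (f : X ⟶ S) [LocallyOfFiniteType f] (r : ℕ) (g : S' ⟶ S)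
    (p q : S'' ⟶ S') (hS : IsPullback p q g g)
    (f' : X' ⟶ S') (g' : X' ⟶ X) (hX : IsPullback g' f' f g)
    (f'' : X'' ⟶ S'') (p' q' : X'' ⟶ X') (hp : IsPullback p' f'' f' p) (hq : IsPullback q' f'' f' q)
    (hpq : p' ≫ g' = q' ≫ g')
    (x : ↥X) (hx : Dual3.resTrdeg f x = r)
    (x₁ x₂ : ↥X') (h₁ : g' x₁ = x) (h₂ : g' x₂ = x)
    (hx₁ : Dual3.resTrdeg f' x₁ = r) (hx₂ : Dual3.resTrdeg f' x₂ = r) :
    ∃ x'' : ↥X'', Dual3.resTrdeg f'' x'' = r ∧ p' x'' = x₁ ∧ q' x'' = x₂ := by
  haveI : LocallyOfFiniteType f' := MorphismProperty.of_isPullback hX ‹_›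
  haveI : LocallyOfFiniteType f'' := MorphismProperty.of_isPullback hq ‹_›
  have hs₁ : g (f' x₁) = f x := by rw [← h₁, ← Scheme.Hom.comp_apply, ← hX.w, Scheme.Hom.comp_apply]
  have hs₂ : g (f' x₂) = f x := by rw [← h₂, ← Scheme.Hom.comp_apply, ← hX.w, Scheme.Hom.comp_apply]
  let kK := resMap f x (f x) rfl
  let kL₁ := resMap g (f' x₁) (f x) hs₁
  let kL₂ := resMap g (f' x₂) (f x) hs₂
  let Lκ₁ := resMap f' x₁ (f' x₁) rfl
  let Lκ₂ := resMap f' x₂ (f' x₂) rfl
  let Kκ₁ := resMap g' x₁ x h₁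
  let Kκ₂ := resMap g' x₂ x h₂
  letI : Algebra (S.residueField (f x)) (X.residueField x) := kK.hom.toAlgebra
  letI : Algebra (S.residueField (f x)) (S'.residueField (f' x₁)) := kL₁.hom.toAlgebra
  letI : Algebra (S'.residueField (f' x₁)) (X'.residueField x₁) := Lκ₁.hom.toAlgebra
  letI : Algebra (X.residueField x) (X'.residueField x₁) := Kκ₁.hom.toAlgebra
  letI : Algebra (S.residueField (f x)) (X'.residueField x₁) := (kK ≫ Kκ₁).hom.toAlgebra
  have hk₁ : kL₁ ≫ Lκ₁ = kK ≫ Kκ₁ := res_ext (by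
    simp only [kL₁, kK, Lκ₁, Kκ₁, Spec.map_comp, Category.assoc, resMap_fromSpec, resMap_fromSpec_assoc, hX.w])
  haveI : IsScalarTower (S.residueField (f x)) (S'.residueField (f' x₁)) (X'.residueField x₁) :=
    IsScalarTower.of_algebraMap_eq fun a => (congrArg (fun m => m.hom a) hk₁).symm
  haveI : IsScalarTower (S.residueField (f x)) (X.residueField x) (X'.residueField x₁) :=
    IsScalarTower.of_algebraMap_eq fun a => rfl
  obtain ⟨C, hT⟩ := exists_isTranscendenceBasis (S.residueField (f x)) (X.residueField x)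
  have hC : #C = (r : Cardinal) := by
    rw [hT.cardinalMk_eq_trdeg, ← hx, resTrdeg_eq f x]
  haveI : Finite C := Cardinal.lt_aleph0_iff_finite.1 (hC ▸ Cardinal.natCast_lt_aleph0)
  have hr₁ : #C ≤ Algebra.trdeg (S'.residueField (f' x₁)) (X'.residueField x₁) := by
    rw [hC, ← hx₁, resTrdeg_eq f' x₁]
  letI : Algebra (S.residueField (f x)) (S'.residueField (f' x₂)) := kL₂.hom.toAlgebra
  letI : Algebra (S'.residueField (f' x₂)) (X'.residueField x₂) := Lκ₂.hom.toAlgebra
  letI : Algebra (X.residueField x) (X'.residueField x₂) := Kκ₂.hom.toAlgebra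
  letI : Algebra (S.residueField (f x)) (X'.residueField x₂) := (kK ≫ Kκ₂).hom.toAlgebra
  have hk₂ : kL₂ ≫ Lκ₂ = kK ≫ Kκ₂ := res_ext (by
    simp only [kL₂, kK, Lκ₂, Kκ₂, Spec.map_comp, Category.assoc, resMap_fromSpec, resMap_fromSpec_assoc, hX.w])
  haveI : IsScalarTower (S.residueField (f x)) (S'.residueField (f' x₂)) (X'.residueField x₂) :=
    IsScalarTower.of_algebraMap_eq fun a => (congrArg (fun m => m.hom a) hk₂).symm
  haveI : IsScalarTower (S.residueField (f x)) (X.residueField x) (X'.residueField x₂) :=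
    IsScalarTower.of_algebraMap_eq fun a => rfl
  have hr₂ : #C ≤ Algebra.trdeg (S'.residueField (f' x₂)) (X'.residueField x₂) := by
    rw [hC, ← hx₂, resTrdeg_eq f' x₂]
  have hg₁ : Subfield.closure (Set.range Lκ₁.hom ∪ Set.range Kκ₁.hom) = ⊤ :=
    residueField_generated hX.flip x₁ (f' x₁) x rfl h₁
  have hg₂ : Subfield.closure (Set.range Lκ₂.hom ∪ Set.range Kκ₂.hom) = ⊤ :=
    residueField_generated hX.flip x₂ (f' x₂) x rfl h₂
  obtain ⟨Q, hQ, j₁, j₂, hj, hind⟩ := exists_composite (L₁ := S'.residueField (f' x₁))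
    (L₂ := S'.residueField (f' x₂)) Subtype.val hT hr₁ hr₂ hg₁ hg₂
  letI := hQ
  let J₁ : X'.residueField x₁ ⟶ CommRingCat.of Q := CommRingCat.ofHom j₁
  let J₂ : X'.residueField x₂ ⟶ CommRingCat.of Q := CommRingCat.ofHom j₂
  let P₁ := Spec.map J₁ ≫ X'.fromSpecResidueField x₁
  let P₂ := Spec.map J₂ ≫ X'.fromSpecResidueField x₂
  have hK : Kκ₁ ≫ J₁ = Kκ₂ ≫ J₂ := CommRingCat.hom_ext hj
  have hPg : P₁ ≫ g' = P₂ ≫ g' := by
    have := congrArg (fun m => Spec.map m ≫ X.fromSpecResidueField x) hK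
    simpa [P₁, P₂, Kκ₁, Kκ₂, Spec.map_comp, resMap_fromSpec] using this
  let m := hS.lift (P₁ ≫ f') (P₂ ≫ f')
    ((Category.assoc P₁ f' g).trans ((congrArg (P₁ ≫ ·) hX.w.symm).trans
      ((Category.assoc P₁ g' f).symm.trans ((congrArg (· ≫ f) hPg).trans
        ((Category.assoc P₂ g' f).trans ((congrArg (P₂ ≫ ·) hX.w).trans (Category.assoc P₂ f' g).symm))))))
  have hm₁ : m ≫ p = P₁ ≫ f' := hS.lift_fst _ _ _
  have hm₂ : m ≫ q = P₂ ≫ f' := hS.lift_snd _ _ _
  let l := hq.lift P₂ m hm₂.symm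
  have hl₂ : l ≫ q' = P₂ := hq.lift_fst _ _ _
  have hlm : l ≫ f'' = m := hq.lift_snd _ _ _
  have hl₁ : l ≫ p' = P₁ := hX.hom_ext
    (by rw [Category.assoc, hpq, reassoc_of% hl₂, ← hPg])
    (by rw [Category.assoc, hp.w, reassoc_of% hlm, hm₁])
  obtain ⟨x'', hx''⟩ : ∃ z, l (closedPoint Q) = z := ⟨_, rfl⟩
  have hp'' : p' x'' = x₁ := by
    rw [← hx'']
    rw [← Scheme.Hom.comp_apply, hl₁]
    exact point_eq J₁ _
  have hq'' : q' x'' = x₂ := by
    rw [← hx'']
    rw [← Scheme.Hom.comp_apply, hl₂]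
    exact point_eq J₂ _
  have e₁ : p (f'' x'') = f' x₁ := by
    rw [← hp'', ← Scheme.Hom.comp_apply, ← Scheme.Hom.comp_apply, hp.w]
  have e₂ : q (f'' x'') = f' x₂ := by
    rw [← hq'', ← Scheme.Hom.comp_apply, ← Scheme.Hom.comp_apply, hq.w]
  have e₀ : (p' ≫ g') x'' = x := by rw [Scheme.Hom.comp_apply, hp'', h₁]
  obtain ⟨ρ, hρ⟩ := exists_desc l x'' hx''
  let Φ := resMap f'' x'' (f'' x'') rfl
  let M := Subfield.closure (Set.range (j₁.comp Lκ₁.hom) ∪ Set.range (j₂.comp Lκ₂.hom))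
  let Lp := resMap p (f'' x'') (f' x₁) e₁
  let Lq := resMap q (f'' x'') (f' x₂) e₂
  have ha : Lp ≫ Φ ≫ ρ = Lκ₁ ≫ J₁ := res_ext (by
    simp only [Lp, Φ, Lκ₁, Spec.map_comp, Category.assoc, resMap_fromSpec, resMap_fromSpec_assoc]
    rw [reassoc_of% hρ, reassoc_of% hlm, hm₁]
    exact Category.assoc _ _ _)
  have hb : Lq ≫ Φ ≫ ρ = Lκ₂ ≫ J₂ := res_ext (by
    simp only [Lq, Φ, Lκ₂, Spec.map_comp, Category.assoc, resMap_fromSpec, resMap_fromSpec_assoc]
    rw [reassoc_of% hρ, reassoc_of% hlm, hm₂]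
    exact Category.assoc _ _ _)
  have hrange : ∀ a, (Φ ≫ ρ).hom a ∈ M := by
    have h := residueField_generated hS (f'' x'') (f' x₁) (f' x₂) e₁ e₂
    intro a
    refine (show Subfield.closure (Set.range Lp.hom ∪ Set.range Lq.hom) ≤ M.comap (Φ ≫ ρ).hom from
      Subfield.closure_le.2 ?_) (h ▸ Subfield.mem_top a)
    rintro _ (⟨c, rfl⟩ | ⟨c, rfl⟩)
    · exact Subfield.subset_closure (Or.inl ⟨c, (congrArg (fun m => m.hom c) ha).symm⟩)
    · exact Subfield.subset_closure (Or.inr ⟨c, (congrArg (fun m => m.hom c) hb).symm⟩)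
  let θ := resMap (p' ≫ g') x'' x e₀
  have hθ : θ ≫ ρ = Kκ₁ ≫ J₁ := res_ext (by
    simp only [θ, Kκ₁, Spec.map_comp, Category.assoc, resMap_fromSpec, resMap_fromSpec_assoc]
    rw [reassoc_of% hρ, reassoc_of% hl₁]
    exact Category.assoc _ _ _)
  letI : Algebra (S''.residueField (f'' x'')) (X''.residueField x'') := Φ.hom.toAlgebra
  letI : Algebra (S''.residueField (f'' x'')) Q := (Φ ≫ ρ).hom.toAlgebra
  letI : Algebra (S''.residueField (f'' x'')) M := ((Φ ≫ ρ).hom.codRestrict M.toSubring hrange).toAlgebra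
  haveI : IsScalarTower (S''.residueField (f'' x'')) M Q := IsScalarTower.of_algebraMap_eq fun _ => rfl
  have hindQ : AlgebraicIndependent (S''.residueField (f'' x'')) (j₁ ∘ Kκ₁.hom ∘ (Subtype.val : C → X.residueField x)) :=
    hind.restrictScalars (algebraMap (S''.residueField (f'' x'')) M).injective
  let φ : X''.residueField x'' →ₐ[S''.residueField (f'' x'')] Q := { ρ.hom with commutes' := fun _ => rfl }
  have hindX : AlgebraicIndependent (S''.residueField (f'' x'')) (θ.hom ∘ (Subtype.val : C → X.residueField x)) := by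
    refine AlgebraicIndependent.of_comp φ ?_
    convert hindQ using 1
    funext i
    exact congrArg (fun m => m.hom i.1) hθ
  refine ⟨x'', le_antisymm ?_ ?_, hp'', hq''⟩
  · rw [show Dual3.resTrdeg f'' x'' = FibDim14.rdeg f'' x'' from rfl, FibDim14.rdeg_eq_rd, Nat.cast_le]
    have h2 : (FibDim14.rd f' x₂ : Cardinal) = r := (FibDim14.rdeg_eq_rd f' x₂).symm.trans hx₂
    rw [← Nat.cast_inj.1 h2, ← hq'']
    exact FibDim14.rd_baseChange_le hq x''
  · rw [← hC, resTrdeg_eq f'' x'']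
    exact hindX.cardinalMk_le_trdeg

end Groth.Agent.TrdegPair15
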